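/-
The loop cocycle on the eleven-dimensional subcode of the Golay code of words vanishing at the extra
point, indexed by `Fin 2048`.

* `code i` : the mask of the word with index `i`; `code_mem`, `exists_code`, `code_inj`
* `th` : the cocycle, with `th_self` (weight over 4), `th_comm` (intersection over 2),
  `th_assoc` (triple intersection)
-/
import Cfsg.Agent.Lib.Golay.Perm

set_option autoImplicit false
open Cfsg Cfsg.Agent.Golay

namespace Cfsg.Agent.GolayCocode

open scoped Pointwise symmDiff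

/-- Indices of the words of the subcode. -/
abbrev V : Type := Fin 2048

/-- A systematic basis of the subcode. -/
def basisMasks : List ℕ :=
  [2422785, 4845570, 3610628, 7221256, 7903248, 5621792, 1009728, 2019456, 4038912, 8077824,
    5405696]

/-- The mask of the word with index `i`. -/
def code (i : ℕ) : ℕ := encAux basisMasks i

theorem code_zero : code 0 = 0 := encAux_zero _

theorem code_xor (i j : ℕ) : code (i ^^^ j) = code i ^^^ code j := encAux_xor _ i j

theorem code_facts : allBits (fun i => isCode (code i) && !(code i).testBit 23 &&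
    code i % 2048 == i) 11 0 = true := by decide +kernel

theorem code_spec {i : ℕ} (hi : i < 2048) :
    isCode (code i) = true ∧ (code i).testBit 23 = false ∧ code i % 2048 = i := by
  have := forall_lt_two_pow code_facts (k := 11) hi
  simp only [Bool.and_eq_true, Bool.not_eq_true', beq_iff_eq] at this
  exact ⟨this.1.1, this.1.2, this.2⟩

theorem code_cover : allBits (fun x => (enc x).testBit 23 || code (x % 2048) == enc x) 12 0 =
    true := by decide +kernel

/-- The support of the word with index `i`. -/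
def sup (i : ℕ) : Finset GolayPt := pts (code i)

theorem sup_mem {i : ℕ} (hi : i < 2048) :
    sup i ∈ supports (golayCode : Set (GolayPt → ZMod 2)) :=
  (pts_mem_supports_iff (lt_of_isCode (code_spec hi).1)).mpr (code_spec hi).1

theorem none_notMem_sup {i : ℕ} (hi : i < 2048) : (none : GolayPt) ∉ sup i := by
  rw [sup, mem_pts]
  have := (code_spec hi).2.1
  simp [idx, this]

theorem sup_zero : sup 0 = ∅ := by
  ext p; simp [sup, code_zero]

theorem sup_xor (i j : ℕ) : sup (i ^^^ j) = sup i ∆ sup j := by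
  rw [sup, code_xor, pts_xor]
  rfl

theorem sup_inj {i j : ℕ} (hi : i < 2048) (hj : j < 2048) (h : sup i = sup j) : i = j := by
  rw [← (code_spec hi).2.2, ← (code_spec hj).2.2]
  congr 1
  refine Nat.eq_of_testBit_eq fun k => ?_
  by_cases hk : k < 24
  · have := congrArg (fun s => decide (pt k ∈ s)) h
    simpa [sup, idx_pt hk] using this
  · rw [Nat.testBit_lt_two_pow, Nat.testBit_lt_two_pow] <;>
      exact lt_of_lt_of_le (lt_of_isCode (code_spec (by assumption)).1)
        (Nat.pow_le_pow_right (by norm_num) (by omega))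

theorem exists_sup {s : Finset GolayPt} (hs : s ∈ supports (golayCode : Set (GolayPt → ZMod 2)))
    (hn : (none : GolayPt) ∉ s) : ∃ i < 2048, sup i = s := by
  obtain ⟨x, hx, rfl⟩ := mem_supports_iff_exists.mp hs
  refine ⟨x % 2048, Nat.mod_lt _ (by norm_num), ?_⟩
  have h := forall_lt_two_pow code_cover (k := 12) hx
  simp only [mem_pts, Bool.not_eq_true] at hn
  simp only [idx] at hn
  rw [hn, Bool.false_or, beq_iff_eq] at h
  rw [sup, h]

/-- Weight over four. -/
def wt (i : ℕ) : ZMod 2 := ((popcount (code i) / 4 : ℕ) : ZMod 2)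

/-- Intersection over two. -/
def cm (i j : ℕ) : ZMod 2 := ((popcount (code i &&& code j) / 2 : ℕ) : ZMod 2)

/-- Triple intersection. -/
def tri (i j k : ℕ) : ZMod 2 := ((popcount (code i &&& code j &&& code k) : ℕ) : ZMod 2)

theorem wt_eq (i : ℕ) : wt i = (((sup i).card / 4 : ℕ) : ZMod 2) := by rw [wt, sup, card_pts]

theorem cm_eq (i j : ℕ) : cm i j = (((sup i ∩ sup j).card / 2 : ℕ) : ZMod 2) := by
  rw [cm, sup, sup, ← pts_and, card_pts]

theorem tri_eq (i j k : ℕ) : tri i j k = (((sup i ∩ sup j ∩ sup k).card : ℕ) : ZMod 2) := by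
  rw [tri, sup, sup, sup, ← pts_and, ← pts_and, card_pts]

theorem cm_comm (i j : ℕ) : cm i j = cm j i := by rw [cm_eq, cm_eq, Finset.inter_comm]

theorem tri_comm (i j k : ℕ) : tri i j k = tri j i k := by
  rw [tri_eq, tri_eq, Finset.inter_comm (sup i)]

theorem tri_comm' (i j k : ℕ) : tri i j k = tri i k j := by
  rw [tri_eq, tri_eq, Finset.inter_right_comm]

theorem four_dvd_card {i : ℕ} (hi : i < 2048) : 4 ∣ (sup i).card := by
  have := card_mem_weights (sup_mem hi)
  rcases this with h | h | h | h | h <;> rw [h] <;> decide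

theorem even_card {i j : ℕ} (hi : i < 2048) (hj : j < 2048) : Even (sup i ∩ sup j).card :=
  inter_even (sup_mem hi) (sup_mem hj)

theorem tri_self {i j : ℕ} (hi : i < 2048) (hj : j < 2048) : tri i i j = 0 := by
  rw [tri_eq, Finset.inter_self, ZMod.natCast_eq_zero_iff_even]
  exact even_card hi hj

theorem tri_self' {i j : ℕ} (hi : i < 2048) (hj : j < 2048) : tri i j j = 0 := by
  rw [tri_eq, Finset.inter_assoc, Finset.inter_self, ZMod.natCast_eq_zero_iff_even]
  exact even_card hi hj

theorem tri_zero (i j : ℕ) : tri 0 i j = 0 := by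
  rw [tri_eq]; simp [sup_zero]

theorem cm_zero (i : ℕ) : cm 0 i = 0 := by rw [cm_eq]; simp [sup_zero]

theorem cm_self {i : ℕ} (hi : i < 2048) : cm i i = 0 := by
  rw [cm_eq, Finset.inter_self, ZMod.natCast_eq_zero_iff_even]
  obtain ⟨k, hk⟩ := four_dvd_card hi
  exact ⟨k, by omega⟩

theorem wt_zero : wt 0 = 0 := by rw [wt_eq]; simp [sup_zero]

theorem add_self (a : ZMod 2) : a + a = 0 := by revert a; decide

theorem tri_xor (i j k l : ℕ) : tri (i ^^^ j) k l = tri i k l + tri j k l := by
  rw [tri_eq, tri_eq, tri_eq, sup_xor, Finset.inter_assoc, Finset.inter_assoc, Finset.inter_assoc]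
  set u := sup k ∩ sup l
  have he : (sup i ∆ sup j) ∩ u = (sup i ∩ u) ∆ (sup j ∩ u) := inf_symmDiff_distrib_right _ _ _
  rw [he]
  have h := congrArg (fun n : ℕ => (n : ZMod 2)) (card_symmDiff_add (sup i ∩ u) (sup j ∩ u))
  push_cast at h
  have h2 : (2 : ZMod 2) = 0 := rfl
  linear_combination h - ((((sup i ∩ u ∩ (sup j ∩ u)).card : ℕ)) : ZMod 2) * h2

theorem cm_xor {i j k : ℕ} (hi : i < 2048) (hj : j < 2048) (hk : k < 2048) :
    cm (i ^^^ j) k = cm i k + cm j k + tri i j k := by
  rw [cm_eq, cm_eq, cm_eq, tri_eq, sup_xor]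
  have he : (sup i ∆ sup j) ∩ sup k = (sup i ∩ sup k) ∆ (sup j ∩ sup k) :=
    inf_symmDiff_distrib_right _ _ _
  have hr : (sup i ∩ sup k) ∩ (sup j ∩ sup k) = sup i ∩ sup j ∩ sup k := by
    ext p; simp only [Finset.mem_inter]; tauto
  rw [he]
  have h := card_symmDiff_add (sup i ∩ sup k) (sup j ∩ sup k)
  rw [hr] at h
  obtain ⟨p, hp⟩ := even_card hi hk
  obtain ⟨q, hq⟩ := even_card hj hk
  have hN : ((sup i ∩ sup k) ∆ (sup j ∩ sup k)).card / 2 + (sup i ∩ sup j ∩ sup k).card =
      (sup i ∩ sup k).card / 2 + (sup j ∩ sup k).card / 2 := by omega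
  have h2 := congrArg (fun n : ℕ => (n : ZMod 2)) hN
  push_cast at h2
  linear_combination h2 - add_self (((sup i ∩ sup j ∩ sup k).card : ℕ) : ZMod 2)

theorem wt_xor {i j : ℕ} (hi : i < 2048) (hj : j < 2048) :
    wt (i ^^^ j) = wt i + wt j + cm i j := by
  rw [wt_eq, wt_eq, wt_eq, cm_eq, sup_xor]
  have h := card_symmDiff_add (sup i) (sup j)
  obtain ⟨p, hp⟩ := four_dvd_card hi
  obtain ⟨q, hq⟩ := four_dvd_card hj
  obtain ⟨r, hr⟩ := even_card hi hj
  have hN : (sup i ∆ sup j).card / 4 + (sup i ∩ sup j).card / 2 =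
      (sup i).card / 4 + (sup j).card / 4 := by omega
  have h2 := congrArg (fun n : ℕ => (n : ZMod 2)) hN
  push_cast at h2
  linear_combination h2 - add_self ((((sup i ∩ sup j).card / 2 : ℕ)) : ZMod 2)

/-- The bit of `x` at `k` in `ZMod 2`. -/
def bit (x k : ℕ) : ZMod 2 := bif x.testBit k then 1 else 0

/-- The cocycle on the indices below `2 ^ n`. -/
def th : ℕ → ℕ → ℕ → ZMod 2
  | 0, _, _ => 0
  | n + 1, x, y => th n (x % 2 ^ n) (y % 2 ^ n) + bit x n * cm (y % 2 ^ n) (2 ^ n) +
      bit y n * tri (x % 2 ^ n) (y % 2 ^ n) (2 ^ n) + bit x n * bit y n * wt (2 ^ n)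

/-- `x` extended by the bit `a` at position `n`. -/
def ext (n x : ℕ) (a : Bool) : ℕ := x ^^^ (bif a then 2 ^ n else 0)

theorem ext_spec {n x : ℕ} (a : Bool) (hx : x < 2 ^ n) :
    ext n x a % 2 ^ n = x ∧ (ext n x a).testBit n = a ∧ ext n x a < 2 ^ (n + 1) := by
  cases a with
  | false =>
    simp [ext, Nat.mod_eq_of_lt hx, Nat.testBit_lt_two_pow hx, Nat.pow_succ]
    omega
  | true =>
    refine ⟨?_, ?_, ?_⟩
    · simp [ext, Nat.xor_mod_two_pow, Nat.mod_eq_of_lt hx]
    · simp [ext, Nat.testBit_xor, Nat.testBit_lt_two_pow hx]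
    · exact Nat.xor_lt_two_pow (hx.trans_le (Nat.pow_le_pow_right (by norm_num) n.le_succ))
        (by simp [Nat.pow_succ])

theorem ext_xor (n x y : ℕ) (a e : Bool) :
    ext n x a ^^^ ext n y e = ext n (x ^^^ y) (xor a e) := by
  cases a <;> cases e <;>
    simp [ext, Nat.xor_assoc, Nat.xor_comm, Nat.xor_left_comm]

theorem exists_ext {n x : ℕ} (hx : x < 2 ^ (n + 1)) : ∃ x' a, x' < 2 ^ n ∧ x = ext n x' a := by
  refine ⟨x % 2 ^ n, x.testBit n, Nat.mod_lt _ (Nat.two_pow_pos n), Nat.eq_of_testBit_eq fun k => ?_⟩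
  rcases lt_trichotomy k n with h | h | h
  · cases x.testBit n <;> simp [ext, Nat.testBit_xor, Nat.testBit_mod_two_pow, h, Nat.testBit_two_pow, h.ne']
  · subst h
    cases hb : x.testBit k <;>
      simp [ext, Nat.testBit_xor, Nat.testBit_mod_two_pow]
  · have : x.testBit k = false := Nat.testBit_lt_two_pow
      (hx.trans_le (Nat.pow_le_pow_right (by norm_num) h))
    cases x.testBit n <;>
      simp [ext, Nat.testBit_xor, Nat.testBit_mod_two_pow, h.le, h.ne, this, Nat.testBit_two_pow,
        not_lt.mpr h.le]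

theorem th_ext {n x y : ℕ} (a e : Bool) (hx : x < 2 ^ n) (hy : y < 2 ^ n) :
    th (n + 1) (ext n x a) (ext n y e) = th n x y + (bif a then 1 else 0) * cm y (2 ^ n) +
      (bif e then 1 else 0) * tri x y (2 ^ n) +
      (bif a then 1 else 0) * (bif e then 1 else 0) * wt (2 ^ n) := by
  rw [th, (ext_spec a hx).1, (ext_spec e hy).1, bit, bit, (ext_spec a hx).2.1,
    (ext_spec e hy).2.1]

/-- The coefficient of a Boolean. -/
def co (a : Bool) : ZMod 2 := bif a then 1 else 0

theorem co_xor (a e : Bool) : co (xor a e) = co a + co e := by cases a <;> cases e <;> rfl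

theorem co_mul_self (a : Bool) : co a * co a = co a := by cases a <;> rfl

theorem tri_ext (n x u v : ℕ) (a : Bool) :
    tri (ext n x a) u v = tri x u v + co a * tri (2 ^ n) u v := by
  cases a <;> simp [ext, co, tri_xor]

theorem tri_ext_ext {n : ℕ} (hb : 2 ^ n < 2048) {x y z : ℕ} (hx : x < 2048) (hy : y < 2048)
    (hz : z < 2048) (a e i : Bool) : tri (ext n x a) (ext n y e) (ext n z i) =
      tri x y z + co a * tri y z (2 ^ n) + co e * tri x z (2 ^ n) + co i * tri x y (2 ^ n) := by
  set b := 2 ^ n with hbdef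
  have hC : ∀ u v : ℕ, tri u v (ext n z i) = tri u v z + co i * tri u v b := fun u v => by
    rw [tri_comm' u v, tri_comm u, tri_ext, tri_comm z u v, tri_comm' u z v, tri_comm _ u v,
      tri_comm' u _ v]
  have hB : ∀ u v : ℕ, tri u (ext n y e) v = tri u y v + co e * tri u b v := fun u v => by
    rw [tri_comm u, tri_ext, tri_comm y u v, tri_comm _ u v]
  rw [tri_ext, hB, hB, hC, hC, hC, hC, tri_self' hx hb, tri_self hb hz, tri_self hb hb,
    tri_comm b y b, tri_self' hy hb, tri_comm b y z, tri_comm' y b z, tri_comm' x b z]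
  ring

theorem cm_ext {n : ℕ} (hb : 2 ^ n < 2048) {x z : ℕ} (hx : x < 2048) (hz : z < 2048) (a : Bool) :
    cm (ext n x a) z = cm x z + co a * (cm (2 ^ n) z + tri x (2 ^ n) z) := by
  cases a with
  | false => simp [ext, co]
  | true =>
    simp only [ext, co, cond_true, cm_xor hx hb hz]
    ring

theorem cm_ext_ext {n : ℕ} (hb : 2 ^ n < 2048) {x y : ℕ} (hx : x < 2048) (hy : y < 2048)
    (a e : Bool) : cm (ext n x a) (ext n y e) = cm x y + co e * cm x (2 ^ n) +
      co a * cm y (2 ^ n) + (co a + co e) * tri x y (2 ^ n) := by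
  have hY : ext n y e < 2048 := Nat.xor_lt_two_pow (n := 11) hy (by cases e <;> simp [hb])
  rw [cm_ext hb hx hY, cm_comm x (ext n y e), cm_ext hb hy hx, cm_comm _ (ext n y e),
    cm_ext hb hy hb, cm_self hb, tri_self' hy hb, tri_comm' x, tri_comm x (ext n y e), tri_ext,
    tri_comm y x, tri_comm _ x, tri_self' hx hb, tri_comm' y, tri_comm y x, cm_comm y x,
    cm_comm (2 ^ n) x]
  ring

theorem th_props : ∀ n ≤ 11, ∀ x < 2 ^ n, ∀ y < 2 ^ n,
    th n x x = wt x ∧ th n x y + th n y x = cm x y ∧ ∀ z < 2 ^ n,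
      th n x y + th n (x ^^^ y) z + th n y z + th n x (y ^^^ z) = tri x y z := by
  intro n
  induction n with
  | zero =>
    intro _ x hx y hy
    simp only [pow_zero, Nat.lt_one_iff] at hx hy
    subst hx hy
    refine ⟨by simp [th, wt_zero], by simp [th, cm_zero], fun z hz => ?_⟩
    simp [th, tri_zero]
  | succ n ih =>
    intro hn X hX Y hY
    obtain ⟨x, a, hx, rfl⟩ := exists_ext hX
    obtain ⟨y, e, hy, rfl⟩ := exists_ext hY
    have hle : 2 ^ n ≤ 2048 := (Nat.pow_le_pow_right (by norm_num) (by omega : n ≤ 11)).trans_eq rfl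
    have hx' : x < 2048 := lt_of_lt_of_le hx hle
    have hy' : y < 2048 := lt_of_lt_of_le hy hle
    have hb : (2 : ℕ) ^ n < 2048 := lt_of_lt_of_le
      (Nat.pow_lt_pow_right (by norm_num) (by omega : n < 11)) le_rfl
    obtain ⟨hself, hcomm, hassoc⟩ := ih (by omega) x hx y hy
    have htwo : (2 : ZMod 2) = 0 := rfl
    have hco : ∀ a : Bool, (bif a then (1 : ZMod 2) else 0) = co a := fun _ => rfl
    refine ⟨?_, ?_, ?_⟩
    · rw [th_ext a a hx hx, hself, tri_self hx' hb, hco]
      cases a with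
      | false => simp [ext, co]
      | true =>
        simp only [ext, co, cond_true, wt_xor hx' hb]
        ring
    · rw [th_ext a e hx hy, th_ext e a hy hx, hco, hco, cm_ext_ext hb hx' hy' a e,
        tri_comm y x]
      linear_combination hcomm + co a * co e * wt (2 ^ n) * htwo
    · intro Z hZ
      obtain ⟨z, i, hz, rfl⟩ := exists_ext hZ
      have hz' : z < 2048 := lt_of_lt_of_le hz hle
      have hassoc := hassoc z hz
      have hxy : x ^^^ y < 2 ^ n := Nat.xor_lt_two_pow hx hy
      have hyz : y ^^^ z < 2 ^ n := Nat.xor_lt_two_pow hy hz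
      rw [ext_xor, ext_xor, th_ext a e hx hy, th_ext _ i hxy hz, th_ext e i hy hz,
        th_ext a _ hx hyz, hco, hco, hco, hco, hco, co_xor, co_xor, tri_ext_ext hb hx' hy' hz',
        cm_xor hy' hz' hb, tri_xor, tri_comm' x (y ^^^ z), tri_comm x _ (y ^^^ z),
        tri_comm' _ x (y ^^^ z), tri_comm _ (y ^^^ z) x, tri_xor, tri_comm y _ x,
        tri_comm' _ y x, tri_comm _ x y, tri_comm' x _ y, tri_comm z _ x, tri_comm' _ z x,
        tri_comm _ x z, tri_comm' x _ z]
      linear_combination hassoc + (co a * cm y (2 ^ n) + co a * cm z (2 ^ n) +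
        co e * cm z (2 ^ n) + co e * tri x y (2 ^ n) + co i * tri x z (2 ^ n) +
        co i * tri y z (2 ^ n) + co i * tri x y (2 ^ n) - co i * tri x y (2 ^ n) +
        co a * co e * wt (2 ^ n) + co a * co i * wt (2 ^ n) + co e * co i * wt (2 ^ n)) * htwo

theorem th_self {x : ℕ} (hx : x < 2048) : th 11 x x = wt x :=
  (th_props 11 le_rfl x hx x hx).1

theorem th_comm {x y : ℕ} (hx : x < 2048) (hy : y < 2048) :
    th 11 x y + th 11 y x = cm x y :=
  (th_props 11 le_rfl x hx y hy).2.1

theorem th_assoc {x y z : ℕ} (hx : x < 2048) (hy : y < 2048) (hz : z < 2048) :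
    th 11 x y + th 11 (x ^^^ y) z + th 11 y z + th 11 x (y ^^^ z) = tri x y z :=
  (th_props 11 le_rfl x hx y hy).2.2 z hz

theorem th_zero_right {x : ℕ} (hx : x < 2048) : th 11 x 0 = 0 := by
  have h1 := th_assoc hx hx (show 0 < 2048 by norm_num)
  have h2 := th_assoc hx (show 0 < 2048 by norm_num) (show 0 < 2048 by norm_num)
  have h00 : th 11 0 0 = 0 := by rw [th_self (by norm_num), wt_zero]
  rw [tri_comm' x 0 0, tri_comm x 0 0, tri_zero] at h2
  simp only [Nat.xor_zero, Nat.zero_xor, h00, add_zero, add_self, zero_add] at h2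
  exact h2

end Cfsg.Agent.GolayCocode
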