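/-
The standard automorphisms of the Parker loop over the subcode vanishing at the extra point, lying
over `M₂₃`: pairs `(π, f)` with `f (x + y) = f x + f y + θ(πx, πy) + θ(x, y)`.

* `Cover` with `proj : Cover →* M23`, surjective (`proj_surjective`)
* `coMap : words →+ ker proj`, surjective, kernel the code and its translate by the extra point,
  equivariant (`coMap_smul`)
-/
import Cfsg.Agent.Lib.GolayCocode.Theta

set_option autoImplicit false
open Cfsg Cfsg.Agent.Golay

namespace Cfsg.Agent.GolayCocode

open scoped Pointwise symmDiff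

/-- Sum of two indices. -/
def add (i j : V) : V := ⟨i.1 ^^^ j.1, Nat.xor_lt_two_pow (n := 11) i.2 j.2⟩

theorem sup_add (i j : V) : sup (add i j).1 = sup i.1 ∆ sup j.1 := sup_xor _ _

theorem sup_val_inj {i j : V} (h : sup i.1 = sup j.1) : i = j := Fin.ext (sup_inj i.2 j.2 h)

theorem exists_act (π : ↥Spor.M23) (i : V) :
    ∃ j : V, sup j.1 = (π : Equiv.Perm GolayPt) • sup i.1 := by
  have hπ := Subgroup.mem_inf.mp π.2
  have hn : (none : GolayPt) ∉ (π : Equiv.Perm GolayPt) • sup i.1 := by
    rw [smul_eq_image, Finset.mem_image]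
    rintro ⟨p, hp, he⟩
    have h0 : (π : Equiv.Perm GolayPt) none = none := hπ.2
    rw [← h0] at he
    exact none_notMem_sup i.2 ((π : Equiv.Perm GolayPt).injective he ▸ hp)
  obtain ⟨j, hj, he⟩ := exists_sup (smul_mem_supports hπ.1 (sup_mem i.2)) hn
  exact ⟨⟨j, hj⟩, he⟩

/-- The action of `M₂₃` on indices. -/
noncomputable def act (π : ↥Spor.M23) (i : V) : V := (exists_act π i).choose

theorem sup_act (π : ↥Spor.M23) (i : V) :
    sup (act π i).1 = (π : Equiv.Perm GolayPt) • sup i.1 := (exists_act π i).choose_spec

theorem act_one (i : V) : act 1 i = i := sup_val_inj (by rw [sup_act, OneMemClass.coe_one, one_smul])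

theorem act_mul (π σ : ↥Spor.M23) (i : V) : act (π * σ) i = act π (act σ i) :=
  sup_val_inj (by rw [sup_act, sup_act, sup_act, Subgroup.coe_mul, mul_smul])

theorem act_inv_act (π : ↥Spor.M23) (i : V) : act π⁻¹ (act π i) = i := by
  rw [← act_mul, inv_mul_cancel, act_one]

theorem act_act_inv (π : ↥Spor.M23) (i : V) : act π (act π⁻¹ i) = i := by
  rw [← act_mul, mul_inv_cancel, act_one]

theorem act_add (π : ↥Spor.M23) (i j : V) : act π (add i j) = add (act π i) (act π j) :=
  sup_val_inj (by rw [sup_act, sup_add, sup_add, sup_act, sup_act, smul_symmDiff])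

theorem act_zero (π : ↥Spor.M23) : act π 0 = 0 :=
  sup_val_inj (by
    rw [sup_act]
    simp [sup_zero, smul_eq_image])

/-- The cocycle. -/
def tau (i j : V) : ZMod 2 := th 11 i.1 j.1

/-- The defect of `π`. -/
noncomputable def defect (π : ↥Spor.M23) (i j : V) : ZMod 2 := tau (act π i) (act π j) + tau i j

theorem wt_act (π : ↥Spor.M23) (i : V) : wt (act π i).1 = wt i.1 := by
  rw [wt_eq, wt_eq, sup_act, Finset.card_smul_finset]

theorem cm_act (π : ↥Spor.M23) (i j : V) : cm (act π i).1 (act π j).1 = cm i.1 j.1 := by
  rw [cm_eq, cm_eq, sup_act, sup_act, ← Finset.smul_finset_inter, Finset.card_smul_finset]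

theorem tri_act (π : ↥Spor.M23) (i j k : V) :
    tri (act π i).1 (act π j).1 (act π k).1 = tri i.1 j.1 k.1 := by
  rw [tri_eq, tri_eq, sup_act, sup_act, sup_act, ← Finset.smul_finset_inter,
    ← Finset.smul_finset_inter, Finset.card_smul_finset]

theorem defect_self (π : ↥Spor.M23) (i : V) : defect π i i = 0 := by
  rw [defect, tau, tau, th_self (act π i).2, th_self i.2, wt_act, add_self]

theorem defect_comm (π : ↥Spor.M23) (i j : V) : defect π i j = defect π j i := by
  have h1 := th_comm (act π i).2 (act π j).2
  have h2 := th_comm i.2 j.2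
  rw [cm_act] at h1
  simp only [defect, tau]
  linear_combination h1 + h2 - add_self (th 11 (act π j).1 (act π i).1)
    - add_self (th 11 j.1 i.1) + add_self (cm i.1 j.1)

theorem defect_zero (π : ↥Spor.M23) (i : V) : defect π i 0 = 0 := by
  simp only [defect, tau, act_zero, Fin.val_zero, th_zero_right (act π i).2, th_zero_right i.2,
    add_zero]

theorem defect_assoc (π : ↥Spor.M23) (i j k : V) :
    defect π i j + defect π (add i j) k + defect π j k + defect π i (add j k) = 0 := by
  have h1 := th_assoc (act π i).2 (act π j).2 (act π k).2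
  have h2 := th_assoc i.2 j.2 k.2
  rw [tri_act] at h1
  rw [defect, defect, defect, defect, act_add, act_add]
  simp only [tau, add]
  linear_combination h1 + h2 + add_self (tri i.1 j.1 k.1)

/-- An index below `2 ^ n`, extended by a bit. -/
def low (n : ℕ) (i : V) : V := ⟨i.1 % 2 ^ n, lt_of_le_of_lt (Nat.mod_le _ _) i.2⟩

/-- The top index at position `n`. -/
def top (n : ℕ) : V := ⟨2 ^ n % 2048, Nat.mod_lt _ (by norm_num)⟩

/-- A lift of `π`, built position by position. -/
noncomputable def liftFun (π : ↥Spor.M23) : ℕ → V → ZMod 2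
  | 0, _ => 0
  | n + 1, i => liftFun π n (low n i) + bit i.1 n * defect π (low n i) (top n)

theorem liftFun_add (π : ↥Spor.M23) : ∀ n ≤ 11, ∀ i j : V, i.1 < 2 ^ n → j.1 < 2 ^ n →
    liftFun π n (add i j) = liftFun π n i + liftFun π n j + defect π i j := by
  intro n
  induction n with
  | zero =>
    intro _ i j hi hj
    have hi0 : i = 0 := Fin.ext (by simpa using hi)
    have hj0 : j = 0 := Fin.ext (by simpa using hj)
    subst hi0 hj0
    simp [liftFun, defect_self]
  | succ n ih =>
    intro hn I J hI hJ
    obtain ⟨x, a, hx, hI'⟩ := exists_ext hI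
    obtain ⟨y, e, hy, hJ'⟩ := exists_ext hJ
    have hn' : (2 : ℕ) ^ n < 2048 :=
      lt_of_lt_of_le (Nat.pow_lt_pow_right (by norm_num) (by omega : n < 11)) le_rfl
    set b := top n with hb
    have hbv : b.1 = 2 ^ n := Nat.mod_eq_of_lt hn'
    set i : V := ⟨x, hx.trans hn'⟩
    set j : V := ⟨y, hy.trans hn'⟩
    have hIJ : (add I J).1 = ext n (x ^^^ y) (xor a e) := by
      show I.1 ^^^ J.1 = _
      rw [hI', hJ', ext_xor]
    have hxy : x ^^^ y < 2 ^ n := Nat.xor_lt_two_pow hx hy
    have lI : low n I = i := Fin.ext (by simp only [low, i, hI', (ext_spec a hx).1])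
    have lJ : low n J = j := Fin.ext (by simp only [low, j, hJ', (ext_spec e hy).1])
    have lIJ : low n (add I J) = add i j :=
      Fin.ext (by simp only [low, hIJ, (ext_spec _ hxy).1]; rfl)
    have eI : I = bif a then add i b else i := by
      apply Fin.ext
      cases a <;> simp [hI', ext, i, add, hbv]
    have eJ : J = bif e then add j b else j := by
      apply Fin.ext
      cases e <;> simp [hJ', ext, j, add, hbv]
    have hf := ih (by omega) i j hx hy
    simp only [liftFun, lI, lJ, lIJ, bit, hIJ, hI', hJ', (ext_spec _ hxy).2.1,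
      (ext_spec a hx).2.1, (ext_spec e hy).2.1, hf, ← hb]
    rw [eI, eJ]
    have hc : ∀ u v : V, add u v = add v u := fun u v => Fin.ext (Nat.xor_comm _ _)
    have hcz : ∀ z : V, defect π (add z b) b = defect π z b := fun z => by
      have h := defect_assoc π z b b
      have hbb : add b b = 0 := Fin.ext (Nat.xor_self _)
      rw [hbb, defect_self, defect_zero] at h
      linear_combination h - add_self (defect π z b)
    -- `D (u + b, v)`
    have hsh : ∀ u v : V, defect π (add u b) v =
        defect π u v + defect π b (add u v) + defect π b u := fun u v => by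
      have h := defect_assoc π b u v
      rw [hc b u] at h
      linear_combination h - add_self (defect π u v) - add_self (defect π b (add u v))
        - add_self (defect π b u)
    cases a <;> cases e <;> simp only [cond_true, cond_false, Bool.xor_false, Bool.xor_true,
      Bool.not_false, Bool.not_true]
    · ring
    · rw [defect_comm π i (add j b), hsh j i, hc j i, defect_comm π b (add i j),
        defect_comm π b j, defect_comm π j i]
      linear_combination -add_self (defect π j b) - add_self (defect π i j) * 0
    · rw [hsh i j, defect_comm π b (add i j), defect_comm π b i]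
      linear_combination -add_self (defect π i b)
    · rw [hsh i (add j b)]
      have hassoc : add i (add j b) = add (add i j) b := Fin.ext (Nat.xor_assoc _ _ _).symm
      rw [hassoc, defect_comm π b (add (add i j) b), hcz, defect_comm π i (add j b), hsh j i,
        hc j i, defect_comm π b (add i j), defect_comm π b j, defect_comm π b i,
        defect_comm π j i]
      linear_combination -add_self (defect π i b) - add_self (defect π j b)
        - add_self (defect π (add i j) b)

/-- Two additive functions agreeing on the basis indices are equal. -/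
theorem additive_ext {F H : V → ZMod 2} (hF : ∀ i j, F (add i j) = F i + F j)
    (hH : ∀ i j, H (add i j) = H i + H j) (h : ∀ k < 11, F (top k) = H (top k)) : F = H := by
  have h0 : ∀ {K : V → ZMod 2}, (∀ i j, K (add i j) = K i + K j) → K 0 = 0 := fun {K} hK => by
    have := hK 0 0
    rw [show add (0 : V) 0 = 0 from Fin.ext (Nat.xor_self _)] at this
    linear_combination -this
  suffices key : ∀ n ≤ 11, ∀ i : V, i.1 < 2 ^ n → F i = H i from
    funext fun i => key 11 le_rfl i i.2
  intro n
  induction n with
  | zero =>
    intro _ i hi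
    rw [show i = 0 from Fin.ext (by simpa using hi), h0 hF, h0 hH]
  | succ n ih =>
    intro hn I hI
    obtain ⟨x, a, hx, hI'⟩ := exists_ext hI
    have hn' : (2 : ℕ) ^ n < 2048 :=
      lt_of_lt_of_le (Nat.pow_lt_pow_right (by norm_num) (by omega : n < 11)) le_rfl
    have hi := ih (by omega) ⟨x, hx.trans hn'⟩ hx
    cases a with
    | false =>
      rwa [show I = ⟨x, hx.trans hn'⟩ from Fin.ext (by simp [hI', ext])]
    | true =>
      rw [show I = add ⟨x, hx.trans hn'⟩ (top n) from
        Fin.ext (by simp [hI', ext, add, top, Nat.mod_eq_of_lt hn']), hF, hH, hi, h n (by omega)]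

theorem orth_check : allBits (fun z => z == 0 ||
    rows.any fun r => popcount ((z <<< 12) &&& r) % 2 == 1) 12 0 = true := by decide +kernel

/-- The code is its own orthogonal. -/
theorem mem_golayCode_of_orth {v : GolayPt → ZMod 2} (h : ∀ c ∈ golayCode, ∑ p, v p * c p = 0) :
    v ∈ golayCode := by
  set m := maskOf (support₂ v)
  have hv : word m = v := word_maskOf_support₂ v
  set c := enc (m % 4096)
  set d := (m ^^^ c) % 2 ^ 24 with hd
  have hlow : d % 4096 = 0 := by
    rw [hd, Nat.mod_mod_of_dvd _ (show 4096 ∣ 2 ^ 24 by norm_num),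
      show (4096 : ℕ) = 2 ^ 12 from rfl, Nat.xor_mod_two_pow,
      show (2 : ℕ) ^ 12 = 4096 from rfl, enc_mod (Nat.mod_lt _ (by norm_num)), Nat.xor_self]
  have hdw : word d = v + word c := by
    rw [← hv, ← word_xor]
    funext p
    simp only [word, hd, Nat.testBit_mod_two_pow, idx_lt p, decide_true, Bool.true_and]
  have hz : (d >>> 12) < 4096 := by
    rw [Nat.shiftRight_eq_div_pow]
    have : d < 2 ^ 24 := Nat.mod_lt _ (Nat.two_pow_pos _)
    omega
  have hchk := forall_lt_two_pow orth_check (k := 12) hz
  have hdz : (d >>> 12) <<< 12 = d := by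
    rw [Nat.shiftRight_eq_div_pow, Nat.shiftLeft_eq]
    omega
  rcases Bool.or_eq_true_iff.mp hchk with h0 | h0
  · have hd0 : d = 0 := by rw [← hdz, beq_iff_eq.mp h0, Nat.zero_shiftLeft]
    rw [hd0, word_zero] at hdw
    have : v = word c := by
      funext p
      have := congrFun hdw p
      simp only [Pi.zero_apply, Pi.add_apply] at this
      linear_combination -this - add_self (word c p)
    rw [this]
    exact word_enc_mem _
  · exfalso
    obtain ⟨r, hr, hp⟩ := List.any_eq_true.mp h0
    rw [hdz, beq_iff_eq] at hp
    have hsum : ∑ p, word d p * word r p = 0 := by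
      simp only [hdw, Pi.add_apply, add_mul, Finset.sum_add_distrib, h _ (rows_mem r hr),
        self_orthogonal (word_enc_mem _) (rows_mem r hr), c, add_zero]
    rw [dot_word, ZMod.natCast_eq_zero_iff_even, Nat.even_iff] at hsum
    omega

/-- A pair of a permutation in `M₂₃` and a function correcting its defect. -/
@[ext]
structure Cover where
  perm : ↥Spor.M23
  fn : V → ZMod 2
  law : ∀ i j, fn (add i j) = fn i + fn j + defect perm i j

namespace Cover

theorem defect_one (i j : V) : defect 1 i j = 0 := by
  rw [defect, act_one, act_one, add_self]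

noncomputable instance : One Cover :=
  ⟨⟨1, 0, fun i j => by simp [defect_one]⟩⟩

noncomputable instance : Mul Cover :=
  ⟨fun g h => ⟨g.perm * h.perm, fun i => h.fn i + g.fn (act h.perm i), fun i j => by
    rw [h.law, act_add, g.law]
    simp only [defect, act_mul]
    linear_combination add_self (tau (act h.perm i) (act h.perm j))⟩⟩

noncomputable instance : Inv Cover :=
  ⟨fun g => ⟨g.perm⁻¹, fun i => g.fn (act g.perm⁻¹ i), fun i j => by
    rw [act_add, g.law]
    simp only [defect, act_act_inv]
    ring⟩⟩

theorem one_perm : (1 : Cover).perm = 1 := rfl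
theorem one_fn (i : V) : (1 : Cover).fn i = 0 := rfl
theorem mul_perm (g h : Cover) : (g * h).perm = g.perm * h.perm := rfl
theorem mul_fn (g h : Cover) (i : V) : (g * h).fn i = h.fn i + g.fn (act h.perm i) := rfl
theorem inv_perm (g : Cover) : g⁻¹.perm = g.perm⁻¹ := rfl
theorem inv_fn (g : Cover) (i : V) : g⁻¹.fn i = g.fn (act g.perm⁻¹ i) := rfl

noncomputable instance : Group Cover := Group.ofLeftAxioms
  (fun a b c => by
    refine Cover.ext (mul_assoc _ _ _) (funext fun i => ?_)
    simp only [mul_fn, mul_perm, act_mul]
    ring)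
  (fun a => Cover.ext (one_mul _) (funext fun i => by simp [mul_fn, one_fn]))
  (fun a => Cover.ext (inv_mul_cancel _) (funext fun i => by
    rw [mul_fn, inv_fn, act_inv_act, one_fn, add_self]))

instance : Finite Cover :=
  Finite.of_injective (fun g => (g.perm, g.fn)) fun _ _ h =>
    Cover.ext (congrArg Prod.fst h) (congrArg Prod.snd h)

/-- The projection. -/
noncomputable def proj : Cover →* ↥Spor.M23 where
  toFun := Cover.perm
  map_one' := rfl
  map_mul' _ _ := rfl

theorem proj_surjective : Function.Surjective proj := fun π =>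
  ⟨⟨π, liftFun π 11, fun i j => liftFun_add π 11 le_rfl i j i.2 j.2⟩, rfl⟩

/-- The pairing of a word with the subcode. -/
def pair (w : GolayPt → ZMod 2) (i : V) : ZMod 2 := ∑ p, w p * word (code i.1) p

theorem pair_add (w : GolayPt → ZMod 2) (i j : V) : pair w (add i j) = pair w i + pair w j := by
  simp only [pair, add, code_xor, word_xor, Pi.add_apply, mul_add, Finset.sum_add_distrib]

theorem pair_add_left (v w : GolayPt → ZMod 2) (i : V) : pair (v + w) i = pair v i + pair w i := by
  simp only [pair, Pi.add_apply, add_mul, Finset.sum_add_distrib]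

/-- The kernel element of a word. -/
noncomputable def ofWord (w : GolayPt → ZMod 2) : ↥proj.ker :=
  ⟨⟨1, pair w, fun i j => by rw [pair_add, defect_one, add_zero]⟩, rfl⟩

/-- The map from words onto the kernel. -/
noncomputable def coMap : (GolayPt → ZMod 2) →+ Additive ↥proj.ker :=
  AddMonoidHom.mk' (fun w => Additive.ofMul (ofWord w)) fun v w => by
    refine congrArg Additive.ofMul (Subtype.ext (Cover.ext (one_mul _).symm (funext fun i => ?_)))
    show pair (v + w) i = pair w i + pair v (act 1 i)
    rw [act_one, pair_add_left]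
    ring

theorem coMap_apply (w : GolayPt → ZMod 2) :
    ((coMap w).toMul : Cover) = ⟨1, pair w, fun i j => by rw [pair_add, defect_one, add_zero]⟩ :=
  rfl

theorem coMap_surjective : Function.Surjective coMap := by
  intro x
  obtain ⟨⟨g, hg⟩, rfl⟩ := Additive.ofMul.surjective x
  have hπ : g.perm = 1 := hg
  refine ⟨fun p => if idx p < 11 then g.fn (top (idx p)) else 0, ?_⟩
  suffices hfn : pair (fun p => if idx p < 11 then g.fn (top (idx p)) else 0) = g.fn by
    have he : ofWord (fun p => if idx p < 11 then g.fn (top (idx p)) else 0) = ⟨g, hg⟩ :=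
      Subtype.ext (Cover.ext hπ.symm hfn)
    rw [← he]
    rfl
  refine additive_ext (F := pair (fun p => if idx p < 11 then g.fn (top (idx p)) else 0))
    (pair_add _) (fun i j => by rw [g.law, hπ, defect_one, add_zero]) fun k hk => ?_
  show pair _ (top k) = _
  rw [pair, Finset.sum_eq_single (pt k)]
  · have hk' : (2 : ℕ) ^ k < 2048 :=
      lt_of_lt_of_le (Nat.pow_lt_pow_right (by norm_num) hk) le_rfl
    have hbit : (code (2 ^ k)).testBit k = true := by
      have h2 := (Nat.testBit_mod_two_pow (code (2 ^ k)) 11 k).symm
      rw [show code (2 ^ k) % 2 ^ 11 = 2 ^ k from (code_spec hk').2.2, Nat.testBit_two_pow_self,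
        decide_eq_true hk, Bool.true_and] at h2
      exact h2
    simp [word, top, Nat.mod_eq_of_lt hk', idx_pt (show k < 24 by omega), hk, hbit]
  · intro p _ hp
    by_cases hp' : idx p < 11
    · have hk' : (2 : ℕ) ^ k < 2048 :=
        lt_of_lt_of_le (Nat.pow_lt_pow_right (by norm_num) hk) le_rfl
      have hne : idx p ≠ k := fun e => hp (by rw [← e, pt_idx])
      have hbit : (code (2 ^ k)).testBit (idx p) = false := by
        have h2 := (Nat.testBit_mod_two_pow (code (2 ^ k)) 11 (idx p)).symm
        rw [show code (2 ^ k) % 2 ^ 11 = 2 ^ k from (code_spec hk').2.2, decide_eq_true hp',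
          Bool.true_and, Nat.testBit_two_pow_of_ne hne.symm] at h2
        exact h2
      simp [word, top, Nat.mod_eq_of_lt hk', hbit]
    · simp [hp']
  · simp

theorem word_act (π : ↥Spor.M23) (i : V) (p : GolayPt) :
    word (code (act π i).1) ((π : Equiv.Perm GolayPt) p) = word (code i.1) p := by
  have h : (π : Equiv.Perm GolayPt) p ∈ sup (act π i).1 ↔ p ∈ sup i.1 := by
    rw [sup_act]
    exact Finset.smul_mem_smul_finset_iff (π : Equiv.Perm GolayPt)
  simp only [sup, mem_pts] at h
  by_cases hp : (code i.1).testBit (idx p) = true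
  · simp [word, h.mpr hp, hp]
  · have := mt h.mp hp
    simp only [Bool.not_eq_true] at hp this
    simp [word, this, hp]

theorem coMap_smul (g : Cover) (w : GolayPt → ZMod 2) :
    ((coMap (w ∘ ⇑((g.perm : Equiv.Perm GolayPt)⁻¹))).toMul : Cover) =
      g * ((coMap w).toMul : Cover) * g⁻¹ := by
  rw [coMap_apply, coMap_apply]
  refine Cover.ext ?_ (funext fun i => ?_)
  · simp [mul_perm, inv_perm]
  · rw [mul_fn, inv_fn, mul_fn, inv_perm]
    dsimp only
    rw [act_one]
    have e : pair (w ∘ ⇑((g.perm : Equiv.Perm GolayPt)⁻¹)) i = pair w (act g.perm⁻¹ i) := by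
      refine (Fintype.sum_equiv (g.perm : Equiv.Perm GolayPt) _ _ fun q => ?_).symm
      have := word_act g.perm (act g.perm⁻¹ i) q
      rw [act_act_inv] at this
      simp [this]
    linear_combination e - add_self (g.fn (act g.perm⁻¹ i))

theorem pair_single (i : V) : pair (Pi.single none 1) i = 0 := by
  rw [pair, Finset.sum_eq_single (none : GolayPt)]
  · simp [word, idx, (code_spec i.2).2.1]
  · intro p _ hp; simp [hp]
  · simp

theorem word_code_mem (i : V) : word (code i.1) ∈ golayCode :=
  (word_mem_golayCode_iff (lt_of_isCode (code_spec i.2).1)).mpr (code_spec i.2).1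

theorem coMap_eq_zero (w : GolayPt → ZMod 2) :
    coMap w = 0 ↔ (w ∈ golayCode ∨ w + Pi.single none 1 ∈ golayCode) := by
  constructor
  · intro h
    have hp : ∀ i, pair w i = 0 := fun i => by
      have := congrArg (fun x : Additive ↥proj.ker => ((x.toMul : ↥proj.ker) : Cover).fn i) h
      exact this
    have key : ∀ v : GolayPt → ZMod 2, (∀ i, pair v i = 0) → (∑ p, v p) = 0 → v ∈ golayCode := by
      intro v hv hs
      refine mem_golayCode_of_orth fun c hc => ?_
      obtain ⟨x, hx, rfl⟩ := mem_golayCode_iff.mp hc
      have hcov : ∀ y < 4096, (enc y).testBit 23 = false → ∑ p, v p * word (enc y) p = 0 := by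
        intro y hy hb
        have h := forall_lt_two_pow code_cover (k := 12) hy
        rw [hb, Bool.false_or, beq_iff_eq] at h
        rw [← h]
        exact hv ⟨y % 2048, Nat.mod_lt _ (by norm_num)⟩
      cases hb : (enc x).testBit 23 with
      | false => exact hcov x hx hb
      | true =>
        have hy : x ^^^ 4095 < 4096 := Nat.xor_lt_two_pow (n := 12) hx (by norm_num)
        have he : enc (x ^^^ 4095) = enc x ^^^ 16777215 := by
          rw [enc_xor, show enc 4095 = 16777215 by decide +kernel]
        have h := hcov _ hy (by rw [he, Nat.testBit_xor, hb]; rfl)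
        simp only [he, word_xor, ← one_eq, Pi.add_apply, Pi.one_apply, mul_add, mul_one,
          Finset.sum_add_distrib, hs, add_zero] at h
        exact h
    rcases (by decide : ∀ a : ZMod 2, a = 0 ∨ a = 1) (∑ p, w p) with hs | hs
    · exact Or.inl (key w hp hs)
    · refine Or.inr (key _ (fun i => by rw [pair_add_left, hp, pair_single, add_zero]) ?_)
      simp only [Pi.add_apply, Finset.sum_add_distrib, hs, Finset.sum_pi_single',
        Finset.mem_univ, if_true]
      rfl
  · intro h
    have hz : ∀ v ∈ golayCode, ∀ i, pair v i = 0 := fun v hv i =>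
      self_orthogonal hv (word_code_mem i)
    have hp : ∀ i, pair w i = 0 := fun i => by
      rcases h with h | h
      · exact hz w h i
      · have := hz _ h i
        rwa [pair_add_left, pair_single, add_zero] at this
    exact congrArg Additive.ofMul (Subtype.ext (Cover.ext rfl (funext hp)))

end Cover

end Cfsg.Agent.GolayCocode
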