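/-
The extension `Cover` of `M₂₃` by the cocode has no complement: no lifts of an involution `p` and an
element `q` of order eight with `q p = p q ^ 3` satisfy the relations.
-/
import Cfsg.Agent.Lib.GolayCocode.Extension

set_option autoImplicit false
open Cfsg Cfsg.Agent.Golay

namespace Cfsg.Agent.GolayCocode

open scoped Pointwise symmDiff

/-- The involution. -/
def dP : ℕ := 960130349222442605173910269246245520

/-- The element of order eight. -/
def dQ : ℕ := 971833287927565081101825897352800365

theorem aut_dP : isAut dP = true ∧ fn dP 23 = 23 := by decide +kernel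
theorem aut_dQ : isAut dQ = true ∧ fn dQ 23 = 23 := by decide +kernel

theorem toPerm_mem_M23 {d : ℕ} (h : isAut d = true ∧ fn d 23 = 23) : toPerm d ∈ Spor.M23 := by
  refine Subgroup.mem_inf.mpr ⟨toPerm_mem_M24 h.1, ?_⟩
  rw [MulAction.mem_stabilizer_iff, Equiv.Perm.smul_def, toPerm_apply (validPerm_of_isAut h.1)]
  show pt (fn d 23) = none
  rw [h.2]
  rfl

/-- The involution in `M₂₃`. -/
noncomputable def permP : ↥Spor.M23 := ⟨toPerm dP, toPerm_mem_M23 aut_dP⟩

/-- The element of order eight in `M₂₃`. -/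
noncomputable def permQ : ↥Spor.M23 := ⟨toPerm dQ, toPerm_mem_M23 aut_dQ⟩

/-- The computable action. -/
def actC (d x : ℕ) : ℕ := imgMask d (code x) % 2048

theorem act_eq {d : ℕ} (h : isAut d = true ∧ Golay.fn d 23 = 23) (i : V) :
    (act ⟨toPerm d, toPerm_mem_M23 h⟩ i).1 = actC d i.1 := by
  have hv := validPerm_of_isAut h.1
  set π : ↥Spor.M23 := ⟨toPerm d, toPerm_mem_M23 h⟩
  have hs := sup_act π i
  rw [sup, sup, show (π : Equiv.Perm GolayPt) = toPerm d from rfl, ← pts_imgMask hv] at hs
  have hlt : imgMask d (code i.1) < 2 ^ 24 := by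
    refine Nat.lt_pow_two_of_testBit _ fun k hk => ?_
    by_contra hb
    rw [Bool.not_eq_false] at hb
    obtain ⟨l, hl, -, he⟩ := (testBit_imgAux d _ _ 24).mp hb
    have := fn_lt_of_valid hv hl
    omega
  have he : code (act π i).1 = imgMask d (code i.1) :=
    Nat.eq_of_testBit_eq fun k => by
      by_cases hk : k < 24
      · have := congrArg (fun s => decide (pt k ∈ s)) hs
        simpa [idx_pt hk] using this
      · rw [Nat.testBit_lt_two_pow, Nat.testBit_lt_two_pow]
        · exact lt_of_lt_of_le hlt (Nat.pow_le_pow_right (by norm_num) (by omega))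
        · exact lt_of_lt_of_le (lt_of_isCode (code_spec (act π i).2).1)
            (Nat.pow_le_pow_right (by norm_num) (by omega))
  rw [actC, ← he, (code_spec (act π i).2).2.2]

/-- The computable lift. -/
def liftC (d : ℕ) : ℕ → ℕ → ZMod 2
  | 0, _ => 0
  | n + 1, x => liftC d n (x % 2 ^ n) + bit x n *
      (th 11 (actC d (x % 2 ^ n)) (actC d (2 ^ n % 2048)) + th 11 (x % 2 ^ n) (2 ^ n % 2048))

theorem liftFun_eq {d : ℕ} (h : isAut d = true ∧ Golay.fn d 23 = 23) :
    ∀ (n : ℕ) (i : V), liftFun ⟨toPerm d, toPerm_mem_M23 h⟩ n i = liftC d n i.1 := by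
  intro n
  induction n with
  | zero => intro i; rfl
  | succ n ih =>
    intro i
    simp only [liftFun, liftC, ih, defect, tau, act_eq h, low, top]

theorem relations : permP * permP = 1 ∧
    (permQ * (permQ * (permQ * (permQ * (permQ * (permQ * (permQ * permQ))))))) = 1 ∧
    permQ * permP = permP * (permQ * (permQ * permQ)) := by
  have hP := validPerm_of_isAut aut_dP.1
  have hQ := validPerm_of_isAut aut_dQ.1
  have key : (∀ p, pt (Golay.fn dP (idx (pt (Golay.fn dP (idx p))))) = p) ∧
      (∀ p, (fun x => pt (Golay.fn dQ (idx x)))^[8] p = p) ∧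
      (∀ p, pt (Golay.fn dQ (idx (pt (Golay.fn dP (idx p))))) =
        pt (Golay.fn dP (idx ((fun x => pt (Golay.fn dQ (idx x)))^[3] p)))) := by
    decide +kernel
  refine ⟨?_, ?_, ?_⟩ <;> refine Subtype.ext (Equiv.ext fun p => ?_)
  · simpa [permP, toPerm_apply hP] using key.1 p
  · simpa [permQ, toPerm_apply hQ, Function.iterate_succ_apply] using key.2.1 p
  · simpa [permP, permQ, toPerm_apply hP, toPerm_apply hQ, Function.iterate_succ_apply]
      using key.2.2 p

theorem certificate :
    let a := actC dP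
    let b := actC dQ
    let F := liftC dP 11
    let H := liftC dQ 11
    (F (a 1) + F 1) + (H 1 + H (b 1) + H (b (b 1)) + H (b (b (b 1))) + H (b (b (b (b 1)))) +
      H (b (b (b (b (b 1))))) + H (b (b (b (b (b (b 1)))))) + H (b (b (b (b (b (b (b 1)))))))) +
      (F (a 2) + F 2) +
      (H (a 2) + F 2 + F (b (b (b 2))) + (H 2 + H (b 2) + H (b (b 2)))) +
      (H (a 512) + F 512 + F (b (b (b 512))) + (H 512 + H (b 512) + H (b (b 512)))) = 1 ∧
    (a 1 ^^^ 1 ^^^ a 2 ^^^ 2 ^^^ 2 ^^^ b (b (b 2)) ^^^ 512 ^^^ b (b (b 512))) = 0 ∧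
    (1 ^^^ b 1 ^^^ b (b 1) ^^^ b (b (b 1)) ^^^ b (b (b (b 1))) ^^^ b (b (b (b (b 1)))) ^^^
      b (b (b (b (b (b 1))))) ^^^ b (b (b (b (b (b (b 1)))))) ^^^ a 2 ^^^ 2 ^^^ b 2 ^^^ b (b 2) ^^^
      a 512 ^^^ 512 ^^^ b 512 ^^^ b (b 512)) = 0 := by
  decide +kernel

namespace Cover

/-- No homomorphism `M₂₃ →* Cover` splits the projection. -/
theorem no_section (s : ↥Spor.M23 →* Cover) (hs : ∀ π, (s π).perm = π) : False := by
  set f := (s permP).fn with hf
  set g := (s permQ).fn with hg
  have hP2 : s permP * s permP = 1 := by rw [← map_mul, relations.1, map_one]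
  have hQ8 : s permQ * (s permQ * (s permQ * (s permQ * (s permQ * (s permQ *
      (s permQ * s permQ)))))) = 1 := by simp only [← map_mul, relations.2.1, map_one]
  have hPQ : s permQ * s permP = s permP * (s permQ * (s permQ * s permQ)) := by
    simp only [← map_mul, relations.2.2]
  have e0 : ∀ i, f i + f (act permP i) = 0 := fun i => by
    have := congrArg (fun c : Cover => c.fn i) hP2
    simpa only [mul_fn, hs, one_fn] using this
  have e1 := fun i => congrArg (fun c : Cover => c.fn i) hQ8
  have e2 := fun i => congrArg (fun c : Cover => c.fn i) hPQ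
  simp only [mul_fn, mul_perm, hs, one_fn, act_mul, ← hf, ← hg] at e1 e2
  -- the additive parts
  set F := liftFun permP 11 with hF
  set K := liftFun permQ 11 with hK
  set lf : V → ZMod 2 := fun i => f i + F i with hlf
  set lg : V → ZMod 2 := fun i => g i + K i with hlg
  have hadd : ∀ (π : ↥Spor.M23) (c : Cover), c.perm = π → ∀ i j,
      (c.fn (add i j) + liftFun π 11 (add i j)) =
        (c.fn i + liftFun π 11 i) + (c.fn j + liftFun π 11 j) := by
    intro π c hc i j
    rw [c.law, hc, liftFun_add π 11 le_rfl i j i.2 j.2]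
    linear_combination add_self (defect π i j)
  have haf : ∀ i j, lf (add i j) = lf i + lf j := hadd permP _ (hs _)
  have hag : ∀ i j, lg (add i j) = lg i + lg j := hadd permQ _ (hs _)
  have hzero : ∀ {L : V → ZMod 2}, (∀ i j, L (add i j) = L i + L j) → L 0 = 0 := fun {L} hL => by
    have := hL 0 0
    rw [show add (0 : V) 0 = 0 from Fin.ext (Nat.xor_self _)] at this
    linear_combination -this
  have cF : ∀ i, f i = lf i + liftC dP 11 i.1 := fun i => by
    rw [← liftFun_eq aut_dP 11 i]
    show f i = f i + F i + F i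
    linear_combination -add_self (F i)
  have cK : ∀ i, g i = lg i + liftC dQ 11 i.1 := fun i => by
    rw [← liftFun_eq aut_dQ 11 i]
    show g i = g i + K i + K i
    linear_combination -add_self (K i)
  have hA : ∀ i : V, (act permP i).1 = actC dP i.1 := act_eq aut_dP
  have hB : ∀ i : V, (act permQ i).1 = actC dQ i.1 := act_eq aut_dQ
  set a := act permP
  set b := act permQ
  set o : V := ⟨1, by norm_num⟩
  set w : V := ⟨2, by norm_num⟩
  set t : V := ⟨512, by norm_num⟩
  obtain ⟨c1, c2, c3⟩ := certificate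
  have sf : lf (a o) + lf o + lf (a w) + lf w + lf w + lf (b (b (b w))) + lf t +
      lf (b (b (b t))) = 0 := by
    rw [← hzero haf]
    simp only [← haf]
    refine congrArg lf (Fin.ext ?_)
    simp only [add, hA, hB]
    exact c2
  have sg : lg o + lg (b o) + lg (b (b o)) + lg (b (b (b o))) + lg (b (b (b (b o)))) +
      lg (b (b (b (b (b o))))) + lg (b (b (b (b (b (b o)))))) +
      lg (b (b (b (b (b (b (b o))))))) + lg (a w) + lg w + lg (b w) + lg (b (b w)) + lg (a t) +
      lg t + lg (b t) + lg (b (b t)) = 0 := by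
    rw [← hzero hag]
    simp only [← hag]
    refine congrArg lg (Fin.ext ?_)
    simp only [add, hA, hB]
    exact c3
  have h0 := e0 o
  have h0' := e0 w
  have h1 := e1 o
  have h2 := e2 w
  have h2' := e2 t
  simp only [cF, cK, hA, hB] at h0 h0' h1 h2 h2'
  dsimp only [o, w, t] at c1 h0 h0' h1 h2 h2' sf sg
  have : (1 : ZMod 2) = 0 := by
    linear_combination (norm := (ring_nf; simp [show (2 : ZMod 2) = 0 from rfl]))
      -c1 + h0 + h0' + h1 + h2 + h2' - sf - sg
  exact absurd this (by decide)

/-- The kernel has no complement. -/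
theorem no_complement (H : Subgroup Cover) (hinf : H ⊓ proj.ker = ⊥) : H ⊔ proj.ker ≠ ⊤ := by
  intro hsup
  have hbij : Function.Bijective (proj.comp H.subtype) := by
    refine ⟨(injective_iff_map_eq_one _).mpr fun x hx => ?_, fun π => ?_⟩
    · have : (x : Cover) ∈ H ⊓ proj.ker := ⟨x.2, hx⟩
      rw [hinf, Subgroup.mem_bot] at this
      exact Subtype.ext this
    · obtain ⟨c, hc⟩ := proj_surjective π
      have hc' : c ∈ H ⊔ proj.ker := hsup ▸ Subgroup.mem_top c
      rw [← SetLike.mem_coe, Subgroup.coe_mul_of_left_le_normalizer_right _ _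
        (by rw [Subgroup.normalizer_eq_top]; exact le_top)] at hc'
      obtain ⟨x, hx, n, hn, rfl⟩ := hc'
      refine ⟨⟨x, hx⟩, ?_⟩
      show proj x = π
      rw [← hc, map_mul, show proj n = 1 from hn, mul_one]
  let e := MulEquiv.ofBijective _ hbij
  exact no_section (H.subtype.comp e.symm.toMonoidHom) fun π => e.apply_symm_apply π

end Cover

end Cfsg.Agent.GolayCocode
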